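import Mathlib
import Groth.Agent.Lib.Helper4.FibDimComp1
import Groth.Agent.Lib.Helper4.RelDim1
import Groth.Agent.S9374

set_option linter.style.haveILetI false
set_option linter.unusedVariables false
set_option linter.unusedSectionVars false
set_option autoImplicit false
set_option backward.isDefEq.respectTransparency.types false
set_option synthInstance.maxHeartbeats 400000
set_option maxHeartbeats 800000

open CategoryTheory CategoryTheory.Limits AlgebraicGeometry TopologicalSpace

namespace Groth.Agent.Helper7.CMDim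

universe u

/-! helper7: dimension formula for Cohen-Macaulay morphisms of finite type -/

open Groth.Agent.Lib.Helper4.FibDim1

/-- Dimension formula for Cohen–Macaulay morphisms. -/
theorem main {X Y : Scheme.{u}} (f : X ⟶ Y) [IsLocallyNoetherian X] [IsLocallyNoetherian Y]
    [LocallyOfFiniteType f] (hf : ∀ x : X, MoreMor.IsCMAt f x) (x : X) :
    FlatMor.localDim ↑X x = FlatMor.localDim ↑Y (f x) + FlatMor.fibreDimAt f x := by
  haveI : Flat f := (Flat.iff_flat_stalkMap f).mpr fun x => (hf x).1
  haveI : LocallyOfFinitePresentation f :=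
    LocallyOfFinitePresentation.iff_locallyOfFiniteType.mpr inferInstance
  have lc := Groth.Agent.S9374.result f hf
  obtain ⟨d, hd, -⟩ := Groth.Agent.Lib.Helper4.Chev2.exists_open_fibreDimAt_le f x
  let U : X.Opens := ⟨{z | FlatMor.fibreDimAt f z = FlatMor.fibreDimAt f x}, lc.isOpen_fiber _⟩
  have hxU : x ∈ U := rfl
  haveI : Flat (U.ι ≫ f) := inferInstance
  haveI : LocallyOfFiniteType (U.ι ≫ f) := inferInstance
  have hrd : Cyc.HasRelDim (U.ι ≫ f) d := by
    rw [Groth.Agent.Lib.Helper4.FibDimComp1.hasRelDim_iff_tr]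
    intro z hmax
    have h1 := Groth.Agent.Lib.Helper4.Equi10.fibreDimAt_eq_tr_of_max_nn (U.ι ≫ f) z hmax
    rw [Groth.Agent.Lib.Helper4.Aff2.fibreDimAt_restrict f U z] at h1
    have h2 : FlatMor.fibreDimAt f (U.ι.base z) = FlatMor.fibreDimAt f x := z.2
    rw [h2, hd] at h1
    exact_mod_cast h1.symm
  have h3 := Groth.Agent.Lib.Helper4.RelDim1.S9359_main (U.ι ≫ f) d hrd ⟨x, hxU⟩
  have h4 : FlatMor.localDim ↥(U : Scheme.{u}) ⟨x, hxU⟩ = FlatMor.localDim X x :=
    Groth.Agent.Lib.Helper4.Chev2.localDim_openEmbedding U.ι U.ι.isOpenEmbedding ⟨x, hxU⟩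
  rw [hd, ← h4, h3]
  rfl

end Groth.Agent.Helper7.CMDim
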